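import Groth.Agent.L10.ModAcyc
import Mathlib.GroupTheory.QuotientGroup.Basic

/-! Ext groups out of free modules on sheaves of sets are cohomology groups. -/

set_option autoImplicit false
set_option backward.defeqAttrib.useBackward true
set_option backward.isDefEq.respectTransparency false

universe w v u

open CategoryTheory CategoryTheory.Limits CategoryTheory.Abelian Opposite

noncomputable section

namespace Groth.L15.FreeExt

section Gen

variable {A : Type*} [Category A] [Abelian A] [HasExt.{w} A] (X : A) {S : ShortComplex A} (hS : S.ShortExact)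

/-- The connecting map. -/
def conn (n : ℕ) : Ext X S.X₃ n →+ Ext X S.X₁ (n + 1) :=
  AddMonoidHom.mk' (fun y => y.comp hS.extClass rfl) fun y z => Ext.add_comp _ _ _ _

theorem conn_surjective (n : ℕ) (h : Subsingleton (Ext X S.X₂ (n + 1))) : Function.Surjective (conn X hS n) :=
  fun x => by
    obtain ⟨y, hy⟩ := Ext.covariant_sequence_exact₁ X hS x (Subsingleton.elim _ _) (n₀ := n) rfl
    exact ⟨y, hy⟩

theorem conn_eq_zero_iff (n : ℕ) (y : Ext X S.X₃ n) :
    conn X hS n y = 0 ↔ ∃ z : Ext X S.X₂ n, z.comp (Ext.mk₀ S.g) (add_zero n) = y := by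
  refine ⟨fun h => Ext.covariant_sequence_exact₃ X hS y rfl h, ?_⟩
  rintro ⟨z, rfl⟩
  show (z.comp (Ext.mk₀ S.g) (add_zero n)).comp hS.extClass rfl = 0
  rw [Ext.comp_assoc_of_second_deg_zero, hS.comp_extClass, Ext.comp_zero]

theorem conn_bijective (n : ℕ) (h : Subsingleton (Ext X S.X₂ (n + 1))) (h' : Subsingleton (Ext X S.X₂ n)) :
    Function.Bijective (conn X hS n) := by
  refine ⟨(injective_iff_map_eq_zero _).2 fun y hy => ?_, conn_surjective X hS n h⟩
  obtain ⟨z, rfl⟩ := (conn_eq_zero_iff X hS n y).1 hy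
  rw [Subsingleton.elim z 0, Ext.zero_comp]

end Gen

open Groth.L10 Groth.L10.SiteFr Groth.L00.ModSiteTensor Groth.L17.HomAcyclic

variable {C : Type u} [SmallCategory C] {J : GrothendieckTopology C} (O : Sheaf J CommRingCat.{u})
  [HasExt.{u} (ModSite.Mod O)]

/-- Ext out of a free module is cohomology. -/
theorem nonempty_iso (X : Sheaf J (Type u)) (F : ModSite.Mod O) (p : ℕ) :
    Nonempty (Ext (ModAcyc.free O X) F p ≃+ CohCx.HK X (ModSite.toAb F) p) := by
  haveI := Groth.L10.shMod_isGrothendieckAbelian (ModSite.ringSh O)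
  match p with
  | 0 =>
    exact ⟨(Ext.addEquiv₀.trans (InjTA.homEquiv O F X).symm).trans Ext.addEquiv₀.symm⟩
  | p + 1 =>
    obtain ⟨P⟩ := EnoughInjectives.presentation F
    let S : ShortComplex (ModSite.Mod O) := ShortComplex.mk P.f (cokernel.π P.f) (cokernel.condition _)
    have hS : S.ShortExact := ShortComplex.ShortExact.mk (S.exact_of_g_is_cokernel (cokernelIsCokernel _))
    haveI : Injective S.X₂ := P.injective
    have hab := ModAcyc.shortExact_toSheaf O hS
    let XA : Sheaf J AddCommGrpCat.{u} := (fr J).obj X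
    have hJ : ∀ m, Subsingleton (Ext XA (S.map (SheafOfModules.toSheaf.{u} (ModSite.ringSh O))).X₂ (m + 1)) :=
      fun m => InjTA.isTotallyAcyclic O S.X₂ X m
    have hI : ∀ m, Subsingleton (Ext (ModAcyc.free O X) S.X₂ (m + 1)) := fun m =>
      subsingleton_of_forall_eq 0 fun z => Ext.eq_zero_of_injective z
    match p with
    | 0 =>
      let f : (ModAcyc.free O X ⟶ S.X₃) →+ Ext (ModAcyc.free O X) S.X₁ 1 :=
        (conn (ModAcyc.free O X) hS 0).comp Ext.addEquiv₀.symm.toAddMonoidHom
      let g : (ModAcyc.free O X ⟶ S.X₃) →+ Ext XA (S.map (SheafOfModules.toSheaf.{u} (ModSite.ringSh O))).X₁ 1 :=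
        (conn XA hab 0).comp
          ((InjTA.homEquiv O S.X₃ X).symm.trans Ext.addEquiv₀.symm).toAddMonoidHom
      have hf : Function.Surjective f := (conn_surjective _ hS 0 (hI 0)).comp Ext.addEquiv₀.symm.surjective
      have hg : Function.Surjective g := (conn_surjective _ hab 0 (hJ 0)).comp
        ((InjTA.homEquiv O S.X₃ X).symm.trans Ext.addEquiv₀.symm).surjective
      have hker : f.ker = g.ker := by
        ext a
        show conn _ hS 0 (Ext.mk₀ a) = 0 ↔ conn _ hab 0 (Ext.mk₀ ((InjTA.homEquiv O S.X₃ X).symm a)) = 0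
        rw [conn_eq_zero_iff, conn_eq_zero_iff]
        constructor
        · rintro ⟨z, hz⟩
          obtain ⟨b, rfl⟩ := (Ext.mk₀_bijective _ _).2 z
          refine ⟨Ext.mk₀ ((InjTA.homEquiv O S.X₂ X).symm b), ?_⟩
          rw [Ext.mk₀_comp_mk₀] at hz ⊢
          refine congrArg Ext.mk₀ ((InjTA.homEquiv O S.X₃ X).injective ?_)
          rw [AddEquiv.apply_symm_apply]
          refine (ModAcyc.homEquiv_comp O X _ S.g).trans ?_
          rw [AddEquiv.apply_symm_apply]
          exact (Ext.mk₀_bijective _ _).1 hz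
        · rintro ⟨z, hz⟩
          obtain ⟨b, rfl⟩ := (Ext.mk₀_bijective _ _).2 z
          refine ⟨Ext.mk₀ (InjTA.homEquiv O S.X₂ X b), ?_⟩
          rw [Ext.mk₀_comp_mk₀] at hz ⊢
          refine congrArg Ext.mk₀ ?_
          rw [← ModAcyc.homEquiv_comp]
          exact (congrArg (InjTA.homEquiv O S.X₃ X) ((Ext.mk₀_bijective _ _).1 hz)).trans (AddEquiv.apply_symm_apply _ _)
      exact ⟨((QuotientAddGroup.quotientKerEquivOfSurjective f hf).symm.trans
        (QuotientAddGroup.quotientAddEquivOfEq hker)).trans (QuotientAddGroup.quotientKerEquivOfSurjective g hg)⟩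
    | q + 1 =>
      obtain ⟨e⟩ := nonempty_iso X S.X₃ (q + 1)
      exact ⟨((AddEquiv.ofBijective _ (conn_bijective (ModAcyc.free O X) hS (q + 1) (hI _) (hI _))).symm.trans e).trans
        (AddEquiv.ofBijective _ (conn_bijective XA hab (q + 1) (hJ _) (hJ _)))⟩
termination_by p

end Groth.L15.FreeExt
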